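import Cfsg.Agent.H0.MFi24d.D
set_option maxRecDepth 100000
set_option Elab.async false
set_option linter.unusedSectionVars false
namespace H0.MFi24d
open H0 BN 
theorem c0 : eqW R 0 3 [12] [2, 1, 2, 1, 2, 1, 0, 2, 0, 2, 0] = true := by decide +kernel
theorem c1 : eqW R 3 3 [12] [2, 1, 2, 1, 2, 1, 0, 2, 0, 2, 0] = true := by decide +kernel
theorem c2 : eqW R 6 3 [12] [2, 1, 2, 1, 2, 1, 0, 2, 0, 2, 0] = true := by decide +kernel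
theorem c3 : eqW R 9 3 [12] [2, 1, 2, 1, 2, 1, 0, 2, 0, 2, 0] = true := by decide +kernel
theorem c4 : eqW R 12 3 [12] [2, 1, 2, 1, 2, 1, 0, 2, 0, 2, 0] = true := by decide +kernel
theorem c5 : eqW R 15 3 [12] [2, 1, 2, 1, 2, 1, 0, 2, 0, 2, 0] = true := by decide +kernel
theorem c6 : eqW R 18 1 [12] [2, 1, 2, 1, 2, 1, 0, 2, 0, 2, 0] = true := by decide +kernel
theorem c7 : eqW R 0 2 [11] [8, 7, 8, 7, 7, 8, 7, 7, 8, 8, 8, 7, 7, 8, 8, 7, 8, 7, 8, 7, 7, 7, 7, 8, 8, 8, 7] = true := by decide +kernel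
theorem c8 : eqW R 2 2 [11] [8, 7, 8, 7, 7, 8, 7, 7, 8, 8, 8, 7, 7, 8, 8, 7, 8, 7, 8, 7, 7, 7, 7, 8, 8, 8, 7] = true := by decide +kernel
theorem c9 : eqW R 4 2 [11] [8, 7, 8, 7, 7, 8, 7, 7, 8, 8, 8, 7, 7, 8, 8, 7, 8, 7, 8, 7, 7, 7, 7, 8, 8, 8, 7] = true := by decide +kernel
theorem c10 : eqW R 6 2 [11] [8, 7, 8, 7, 7, 8, 7, 7, 8, 8, 8, 7, 7, 8, 8, 7, 8, 7, 8, 7, 7, 7, 7, 8, 8, 8, 7] = true := by decide +kernel
theorem c11 : eqW R 8 2 [11] [8, 7, 8, 7, 7, 8, 7, 7, 8, 8, 8, 7, 7, 8, 8, 7, 8, 7, 8, 7, 7, 7, 7, 8, 8, 8, 7] = true := by decide +kernel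
theorem c12 : eqW R 10 2 [11] [8, 7, 8, 7, 7, 8, 7, 7, 8, 8, 8, 7, 7, 8, 8, 7, 8, 7, 8, 7, 7, 7, 7, 8, 8, 8, 7] = true := by decide +kernel
theorem c13 : eqW R 12 2 [11] [8, 7, 8, 7, 7, 8, 7, 7, 8, 8, 8, 7, 7, 8, 8, 7, 8, 7, 8, 7, 7, 7, 7, 8, 8, 8, 7] = true := by decide +kernel
theorem c14 : eqW R 14 2 [11] [8, 7, 8, 7, 7, 8, 7, 7, 8, 8, 8, 7, 7, 8, 8, 7, 8, 7, 8, 7, 7, 7, 7, 8, 8, 8, 7] = true := by decide +kernel
theorem c15 : eqW R 16 2 [11] [8, 7, 8, 7, 7, 8, 7, 7, 8, 8, 8, 7, 7, 8, 8, 7, 8, 7, 8, 7, 7, 7, 7, 8, 8, 8, 7] = true := by decide +kernel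
theorem c16 : eqW R 18 1 [11] [8, 7, 8, 7, 7, 8, 7, 7, 8, 8, 8, 7, 7, 8, 8, 7, 8, 7, 8, 7, 7, 7, 7, 8, 8, 8, 7] = true := by decide +kernel
theorem c17 : eqW R 0 2 [10] [7, 8, 7, 8, 7, 8, 7, 7, 8, 8, 7, 8, 8, 8, 8, 7, 8, 8, 8, 7, 7, 7, 8, 8, 7, 7, 8, 7, 7] = true := by decide +kernel
theorem c18 : eqW R 2 2 [10] [7, 8, 7, 8, 7, 8, 7, 7, 8, 8, 7, 8, 8, 8, 8, 7, 8, 8, 8, 7, 7, 7, 8, 8, 7, 7, 8, 7, 7] = true := by decide +kernel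
theorem c19 : eqW R 4 2 [10] [7, 8, 7, 8, 7, 8, 7, 7, 8, 8, 7, 8, 8, 8, 8, 7, 8, 8, 8, 7, 7, 7, 8, 8, 7, 7, 8, 7, 7] = true := by decide +kernel
theorem c20 : eqW R 6 2 [10] [7, 8, 7, 8, 7, 8, 7, 7, 8, 8, 7, 8, 8, 8, 8, 7, 8, 8, 8, 7, 7, 7, 8, 8, 7, 7, 8, 7, 7] = true := by decide +kernel
theorem c21 : eqW R 8 2 [10] [7, 8, 7, 8, 7, 8, 7, 7, 8, 8, 7, 8, 8, 8, 8, 7, 8, 8, 8, 7, 7, 7, 8, 8, 7, 7, 8, 7, 7] = true := by decide +kernel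
theorem c22 : eqW R 10 2 [10] [7, 8, 7, 8, 7, 8, 7, 7, 8, 8, 7, 8, 8, 8, 8, 7, 8, 8, 8, 7, 7, 7, 8, 8, 7, 7, 8, 7, 7] = true := by decide +kernel
theorem c23 : eqW R 12 2 [10] [7, 8, 7, 8, 7, 8, 7, 7, 8, 8, 7, 8, 8, 8, 8, 7, 8, 8, 8, 7, 7, 7, 8, 8, 7, 7, 8, 7, 7] = true := by decide +kernel
theorem c24 : eqW R 14 2 [10] [7, 8, 7, 8, 7, 8, 7, 7, 8, 8, 7, 8, 8, 8, 8, 7, 8, 8, 8, 7, 7, 7, 8, 8, 7, 7, 8, 7, 7] = true := by decide +kernel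
theorem c25 : eqW R 16 2 [10] [7, 8, 7, 8, 7, 8, 7, 7, 8, 8, 7, 8, 8, 8, 8, 7, 8, 8, 8, 7, 7, 7, 8, 8, 7, 7, 8, 7, 7] = true := by decide +kernel
theorem c26 : eqW R 18 1 [10] [7, 8, 7, 8, 7, 8, 7, 7, 8, 8, 7, 8, 8, 8, 8, 7, 8, 8, 8, 7, 7, 7, 8, 8, 7, 7, 8, 7, 7] = true := by decide +kernel
theorem c27 : eqW R 0 2 [9] [7, 7, 8, 8, 7, 8, 7, 7, 8, 8, 8, 7, 7, 8, 8, 7, 8, 7, 7, 8, 7, 7, 8, 8, 8, 7, 8] = true := by decide +kernel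
theorem c28 : eqW R 2 2 [9] [7, 7, 8, 8, 7, 8, 7, 7, 8, 8, 8, 7, 7, 8, 8, 7, 8, 7, 7, 8, 7, 7, 8, 8, 8, 7, 8] = true := by decide +kernel
theorem c29 : eqW R 4 2 [9] [7, 7, 8, 8, 7, 8, 7, 7, 8, 8, 8, 7, 7, 8, 8, 7, 8, 7, 7, 8, 7, 7, 8, 8, 8, 7, 8] = true := by decide +kernel
theorem c30 : eqW R 6 2 [9] [7, 7, 8, 8, 7, 8, 7, 7, 8, 8, 8, 7, 7, 8, 8, 7, 8, 7, 7, 8, 7, 7, 8, 8, 8, 7, 8] = true := by decide +kernel
theorem c31 : eqW R 8 2 [9] [7, 7, 8, 8, 7, 8, 7, 7, 8, 8, 8, 7, 7, 8, 8, 7, 8, 7, 7, 8, 7, 7, 8, 8, 8, 7, 8] = true := by decide +kernel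
theorem c32 : eqW R 10 2 [9] [7, 7, 8, 8, 7, 8, 7, 7, 8, 8, 8, 7, 7, 8, 8, 7, 8, 7, 7, 8, 7, 7, 8, 8, 8, 7, 8] = true := by decide +kernel
theorem c33 : eqW R 12 2 [9] [7, 7, 8, 8, 7, 8, 7, 7, 8, 8, 8, 7, 7, 8, 8, 7, 8, 7, 7, 8, 7, 7, 8, 8, 8, 7, 8] = true := by decide +kernel
theorem c34 : eqW R 14 2 [9] [7, 7, 8, 8, 7, 8, 7, 7, 8, 8, 8, 7, 7, 8, 8, 7, 8, 7, 7, 8, 7, 7, 8, 8, 8, 7, 8] = true := by decide +kernel
theorem c35 : eqW R 16 2 [9] [7, 7, 8, 8, 7, 8, 7, 7, 8, 8, 8, 7, 7, 8, 8, 7, 8, 7, 7, 8, 7, 7, 8, 8, 8, 7, 8] = true := by decide +kernel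
theorem c36 : eqW R 18 1 [9] [7, 7, 8, 8, 7, 8, 7, 7, 8, 8, 8, 7, 7, 8, 8, 7, 8, 7, 7, 8, 7, 7, 8, 8, 8, 7, 8] = true := by decide +kernel
theorem c37 : eqW R 0 2 [8] [6, 5, 6, 6, 6, 6, 5, 5, 5, 6, 5, 5, 6, 6, 6, 5] = true := by decide +kernel
theorem c38 : eqW R 2 2 [8] [6, 5, 6, 6, 6, 6, 5, 5, 5, 6, 5, 5, 6, 6, 6, 5] = true := by decide +kernel
theorem c39 : eqW R 4 2 [8] [6, 5, 6, 6, 6, 6, 5, 5, 5, 6, 5, 5, 6, 6, 6, 5] = true := by decide +kernel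
theorem c40 : eqW R 6 2 [8] [6, 5, 6, 6, 6, 6, 5, 5, 5, 6, 5, 5, 6, 6, 6, 5] = true := by decide +kernel
theorem c41 : eqW R 8 2 [8] [6, 5, 6, 6, 6, 6, 5, 5, 5, 6, 5, 5, 6, 6, 6, 5] = true := by decide +kernel
theorem c42 : eqW R 10 2 [8] [6, 5, 6, 6, 6, 6, 5, 5, 5, 6, 5, 5, 6, 6, 6, 5] = true := by decide +kernel
theorem c43 : eqW R 12 2 [8] [6, 5, 6, 6, 6, 6, 5, 5, 5, 6, 5, 5, 6, 6, 6, 5] = true := by decide +kernel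
theorem c44 : eqW R 14 2 [8] [6, 5, 6, 6, 6, 6, 5, 5, 5, 6, 5, 5, 6, 6, 6, 5] = true := by decide +kernel
theorem c45 : eqW R 16 2 [8] [6, 5, 6, 6, 6, 6, 5, 5, 5, 6, 5, 5, 6, 6, 6, 5] = true := by decide +kernel
theorem c46 : eqW R 18 1 [8] [6, 5, 6, 6, 6, 6, 5, 5, 5, 6, 5, 5, 6, 6, 6, 5] = true := by decide +kernel
theorem c47 : eqW R 0 2 [7] [6, 6, 5, 5, 6, 5, 5, 6, 5, 5, 5, 6, 6, 5, 6, 6] = true := by decide +kernel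
theorem c48 : eqW R 2 2 [7] [6, 6, 5, 5, 6, 5, 5, 6, 5, 5, 5, 6, 6, 5, 6, 6] = true := by decide +kernel
theorem c49 : eqW R 4 2 [7] [6, 6, 5, 5, 6, 5, 5, 6, 5, 5, 5, 6, 6, 5, 6, 6] = true := by decide +kernel
theorem c50 : eqW R 6 2 [7] [6, 6, 5, 5, 6, 5, 5, 6, 5, 5, 5, 6, 6, 5, 6, 6] = true := by decide +kernel
theorem c51 : eqW R 8 2 [7] [6, 6, 5, 5, 6, 5, 5, 6, 5, 5, 5, 6, 6, 5, 6, 6] = true := by decide +kernel
theorem c52 : eqW R 10 2 [7] [6, 6, 5, 5, 6, 5, 5, 6, 5, 5, 5, 6, 6, 5, 6, 6] = true := by decide +kernel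
theorem c53 : eqW R 12 2 [7] [6, 6, 5, 5, 6, 5, 5, 6, 5, 5, 5, 6, 6, 5, 6, 6] = true := by decide +kernel
theorem c54 : eqW R 14 2 [7] [6, 6, 5, 5, 6, 5, 5, 6, 5, 5, 5, 6, 6, 5, 6, 6] = true := by decide +kernel
theorem c55 : eqW R 16 2 [7] [6, 6, 5, 5, 6, 5, 5, 6, 5, 5, 5, 6, 6, 5, 6, 6] = true := by decide +kernel
theorem c56 : eqW R 18 1 [7] [6, 6, 5, 5, 6, 5, 5, 6, 5, 5, 5, 6, 6, 5, 6, 6] = true := by decide +kernel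
theorem c57 : eqW R 0 2 [6] [3, 4, 3, 4, 4, 4, 3, 4, 4, 3, 3, 4, 4, 3, 3, 4, 3, 4, 3, 4, 4, 3, 4, 3, 4, 3, 4] = true := by decide +kernel
theorem c58 : eqW R 2 2 [6] [3, 4, 3, 4, 4, 4, 3, 4, 4, 3, 3, 4, 4, 3, 3, 4, 3, 4, 3, 4, 4, 3, 4, 3, 4, 3, 4] = true := by decide +kernel
theorem c59 : eqW R 4 2 [6] [3, 4, 3, 4, 4, 4, 3, 4, 4, 3, 3, 4, 4, 3, 3, 4, 3, 4, 3, 4, 4, 3, 4, 3, 4, 3, 4] = true := by decide +kernel
theorem c60 : eqW R 6 2 [6] [3, 4, 3, 4, 4, 4, 3, 4, 4, 3, 3, 4, 4, 3, 3, 4, 3, 4, 3, 4, 4, 3, 4, 3, 4, 3, 4] = true := by decide +kernel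
theorem c61 : eqW R 8 2 [6] [3, 4, 3, 4, 4, 4, 3, 4, 4, 3, 3, 4, 4, 3, 3, 4, 3, 4, 3, 4, 4, 3, 4, 3, 4, 3, 4] = true := by decide +kernel
theorem c62 : eqW R 10 2 [6] [3, 4, 3, 4, 4, 4, 3, 4, 4, 3, 3, 4, 4, 3, 3, 4, 3, 4, 3, 4, 4, 3, 4, 3, 4, 3, 4] = true := by decide +kernel
theorem c63 : eqW R 12 2 [6] [3, 4, 3, 4, 4, 4, 3, 4, 4, 3, 3, 4, 4, 3, 3, 4, 3, 4, 3, 4, 4, 3, 4, 3, 4, 3, 4] = true := by decide +kernel
theorem c64 : eqW R 14 2 [6] [3, 4, 3, 4, 4, 4, 3, 4, 4, 3, 3, 4, 4, 3, 3, 4, 3, 4, 3, 4, 4, 3, 4, 3, 4, 3, 4] = true := by decide +kernel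
theorem c65 : eqW R 16 2 [6] [3, 4, 3, 4, 4, 4, 3, 4, 4, 3, 3, 4, 4, 3, 3, 4, 3, 4, 3, 4, 4, 3, 4, 3, 4, 3, 4] = true := by decide +kernel
theorem c66 : eqW R 18 1 [6] [3, 4, 3, 4, 4, 4, 3, 4, 4, 3, 3, 4, 4, 3, 3, 4, 3, 4, 3, 4, 4, 3, 4, 3, 4, 3, 4] = true := by decide +kernel
theorem c67 : eqW R 0 3 [5] [3, 4, 4, 4, 4, 4, 4, 4, 4, 4, 3, 4, 3, 3, 4] = true := by decide +kernel
theorem c68 : eqW R 3 3 [5] [3, 4, 4, 4, 4, 4, 4, 4, 4, 4, 3, 4, 3, 3, 4] = true := by decide +kernel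
theorem c69 : eqW R 6 3 [5] [3, 4, 4, 4, 4, 4, 4, 4, 4, 4, 3, 4, 3, 3, 4] = true := by decide +kernel
theorem c70 : eqW R 9 3 [5] [3, 4, 4, 4, 4, 4, 4, 4, 4, 4, 3, 4, 3, 3, 4] = true := by decide +kernel
theorem c71 : eqW R 12 3 [5] [3, 4, 4, 4, 4, 4, 4, 4, 4, 4, 3, 4, 3, 3, 4] = true := by decide +kernel
theorem c72 : eqW R 15 3 [5] [3, 4, 4, 4, 4, 4, 4, 4, 4, 4, 3, 4, 3, 3, 4] = true := by decide +kernel
theorem c73 : eqW R 18 1 [5] [3, 4, 4, 4, 4, 4, 4, 4, 4, 4, 3, 4, 3, 3, 4] = true := by decide +kernel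
theorem c74 : eqW R 0 3 [4] [2, 2, 1, 0, 1, 0, 1, 1] = true := by decide +kernel
theorem c75 : eqW R 3 3 [4] [2, 2, 1, 0, 1, 0, 1, 1] = true := by decide +kernel
theorem c76 : eqW R 6 3 [4] [2, 2, 1, 0, 1, 0, 1, 1] = true := by decide +kernel
theorem c77 : eqW R 9 3 [4] [2, 2, 1, 0, 1, 0, 1, 1] = true := by decide +kernel
theorem c78 : eqW R 12 3 [4] [2, 2, 1, 0, 1, 0, 1, 1] = true := by decide +kernel
theorem c79 : eqW R 15 3 [4] [2, 2, 1, 0, 1, 0, 1, 1] = true := by decide +kernel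
theorem c80 : eqW R 18 1 [4] [2, 2, 1, 0, 1, 0, 1, 1] = true := by decide +kernel
theorem c81 : eqW R 0 3 [3] [2, 0, 1, 2, 1, 2, 2, 0, 1, 2] = true := by decide +kernel
theorem c82 : eqW R 3 3 [3] [2, 0, 1, 2, 1, 2, 2, 0, 1, 2] = true := by decide +kernel
theorem c83 : eqW R 6 3 [3] [2, 0, 1, 2, 1, 2, 2, 0, 1, 2] = true := by decide +kernel
theorem c84 : eqW R 9 3 [3] [2, 0, 1, 2, 1, 2, 2, 0, 1, 2] = true := by decide +kernel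
theorem c85 : eqW R 12 3 [3] [2, 0, 1, 2, 1, 2, 2, 0, 1, 2] = true := by decide +kernel
theorem c86 : eqW R 15 3 [3] [2, 0, 1, 2, 1, 2, 2, 0, 1, 2] = true := by decide +kernel
theorem c87 : eqW R 18 1 [3] [2, 0, 1, 2, 1, 2, 2, 0, 1, 2] = true := by decide +kernel
theorem c88 : Model.fixP R [181953, 56865, 1, 0] [[9], [10], [11]] = true := by decide +kernel
theorem c89 : Model.growP R [[9], [10], [11]] [0, 1, 2, 0, 1, 2, 0, 1, 2, 0, 1, 2, 0, 0] 15096 729 = true := by decide +kernel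
theorem c90 : Model.fixP R [56865, 1, 0] [[7], [8]] = true := by decide +kernel
theorem c91 : Model.growP R [[7], [8]] [0, 1, 0, 1, 0, 1, 0, 1, 0, 1, 0, 1, 0, 1, 0, 1, 0, 1, 0, 1, 0, 1, 0, 1, 0, 1, 0, 1] 181953 93312 = true := by decide +kernel
theorem c92 : Model.fixP R [1, 0] [[5], [6]] = true := by decide +kernel
theorem c93 : Model.growP R [[5], [6]] [0, 1, 0, 1, 0, 1, 0, 1, 0, 1, 0, 1, 0, 1, 0, 1, 0, 1, 0, 1, 0, 1, 0, 1, 0, 1, 0, 1, 0, 0] 56865 218400 = true := by decide +kernel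
theorem c94 : Model.fixP R [0] [[3], [4]] = true := by decide +kernel
theorem c95 : Model.growP R [[3], [4]] [0, 1, 0, 1, 0, 1, 0, 1, 0, 1, 0, 1, 0, 1, 0, 1, 0, 1, 0, 1, 0, 1, 0, 1, 0, 1, 0, 1, 0, 1, 0, 0] 1 275264 = true := by decide +kernel
theorem c96 : Model.fixP R [] [[0], [1], [2]] = true := by decide +kernel
theorem c97 : Model.growP R [[0], [1], [2]] [2, 0, 1, 2, 0, 1, 2, 0, 1, 2, 0, 1, 2, 0, 1, 2, 0, 1, 2, 0, 1, 2, 0, 1, 2, 0, 1, 2, 0, 1, 2, 0, 1, 0] 0 306936 = true := by decide +kernel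
theorem c98 : Model.fixW R [15096, 181953, 56865, 1, 0] ((iR.drop 0).take 3) = true := by decide +kernel
theorem c99 : Model.growW R [[0], [1], [2]] [2, 0, 1, 2, 0, 1, 2, 0, 1, 2, 0, 1, 2, 0, 1, 2, 0, 1, 2, 0, 1, 2, 0, 1, 2, 0, 1, 2, 0, 1, 2, 0, 1, 0] (Nat.pow 2 0) (ival 0 306936) = true := by decide +kernel
theorem c100 : Model.invW R [[0], [1], [2]] 0 306936 = true := by decide +kernel
theorem c101 : Model.fixW R [0] [[3], [4]] = true := by decide +kernel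
theorem c102 : Model.growW R [[3], [4]] [1, 0, 1, 0, 1, 0, 1, 0, 1, 0, 1, 0, 1, 0, 1, 0, 1, 0, 1, 0, 1, 0, 1, 0, 1, 0, 1, 0, 1, 0, 1, 1] (Nat.pow 2 37911) (ival 1 275264) = true := by decide +kernel
theorem c103 : mapsW R [2, 1, 2] (Nat.pow 2 0) (Nat.pow 2 37911) = true := by decide +kernel
theorem c104 : Model.growW R [[2, 1, 2], [3], [4]] [0, 2, 0, 1, 2, 0, 1, 2, 1, 2, 0, 2, 1, 2, 0, 2, 1, 2, 0, 2, 1, 2, 0, 2, 1, 2, 0, 2, 1, 0] (Nat.pow 2 0) (ival 0 306936) = true := by decide +kernel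
theorem c105 : Model.growW R [[3], [4]] [0, 1, 0, 1, 0, 1, 0, 1, 0, 1, 0, 1, 0, 1, 0, 1, 0, 1, 0, 1, 0, 1, 0, 1, 0, 1, 0, 0] (Nat.pow 2 275265) (ival 275265 31671) = true := by decide +kernel
theorem c106 : mapsW R [2] (Nat.pow 2 0) (Nat.pow 2 275265) = true := by decide +kernel
theorem c107 : Model.growW R [[2], [3], [4]] [0, 1, 2, 1, 2, 0, 1, 2, 0, 1, 2, 0, 1, 2, 0, 1, 2, 0, 1, 2, 0, 1, 2, 0, 1, 2, 1, 0, 1] (Nat.pow 2 0) (ival 0 306936) = true := by decide +kernel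
theorem c108 : Model.fixW R [0] ((ngR.drop 0).take 1) = true := by decide +kernel
theorem c109 : Model.fixW R [1] ((ngR.drop 0).take 1) = true := by decide +kernel
theorem c110 : Model.fixW R [56865] ((ngR.drop 0).take 1) = true := by decide +kernel
theorem c111 : Model.fixW R [181953] ((ngR.drop 0).take 1) = true := by decide +kernel
theorem c112 : Model.fixW R [15096] ((ngR.drop 0).take 1) = true := by decide +kernel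
theorem c113 : Model.fixW R [15096, 181953, 56865, 1, 0] ((ngR.drop 1).take 1) = true := by decide +kernel
theorem c114 : Model.fixW R [0] ((ngR.drop 2).take 1) = true := by decide +kernel
theorem c115 : Model.fixW R [1] ((ngR.drop 2).take 1) = true := by decide +kernel
theorem c116 : Model.fixW R [56865] ((ngR.drop 2).take 1) = true := by decide +kernel
theorem c117 : Model.fixW R [181953] ((ngR.drop 2).take 1) = true := by decide +kernel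
theorem c118 : Model.fixW R [15096] ((ngR.drop 2).take 1) = true := by decide +kernel
theorem c119 : Model.fixW R [15096, 181953, 56865, 1, 0] ((ngR.drop 3).take 1) = true := by decide +kernel
theorem c120 : Model.fixW R [0] ((ngR.drop 4).take 1) = true := by decide +kernel
theorem c121 : Model.fixW R [1] ((ngR.drop 4).take 1) = true := by decide +kernel
theorem c122 : Model.fixW R [56865] ((ngR.drop 4).take 1) = true := by decide +kernel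
theorem c123 : Model.fixW R [181953] ((ngR.drop 4).take 1) = true := by decide +kernel
theorem c124 : Model.fixW R [15096] ((ngR.drop 4).take 1) = true := by decide +kernel
theorem c125 : Model.fixW R [15096, 181953, 56865, 1, 0] ((ngR.drop 5).take 1) = true := by decide +kernel
theorem c126 : Model.fixW R [0] ((xR.drop 0).take 1) = true := by decide +kernel
theorem c127 : Model.fixW R [1] ((xR.drop 0).take 1) = true := by decide +kernel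
theorem c128 : Model.fixW R [56865] ((xR.drop 0).take 1) = true := by decide +kernel
theorem c129 : Model.fixW R [181953] ((xR.drop 0).take 1) = true := by decide +kernel
theorem c130 : Model.fixW R [15096] ((xR.drop 0).take 1) = true := by decide +kernel
end H0.MFi24d
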