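import Cfsg.Agent.H0.MFi24d.K0
import Cfsg.Agent.H0.MFi24.Main
set_option maxRecDepth 100000
set_option Elab.async false
set_option linter.unusedSectionVars false
namespace H0.MFi24d
open H0 BN 
theorem defs_ok : DefsOK R.p defs 3 := (defsOK_cons (eq_of_bits R (eqb_step R (eqb_step R (eqb_step R (eqb_step R (eqb_step R (eqb_step R (eqb_step R (eqb_zero R [3] [2, 0, 1, 2, 1, 2, 2, 0, 1, 2]) c81) c82) c83) c84) c85) c86) c87)) (by decide) (defsOK_cons (eq_of_bits R (eqb_step R (eqb_step R (eqb_step R (eqb_step R (eqb_step R (eqb_step R (eqb_step R (eqb_zero R [4] [2, 2, 1, 0, 1, 0, 1, 1]) c74) c75) c76) c77) c78) c79) c80)) (by decide) (defsOK_cons (eq_of_bits R (eqb_step R (eqb_step R (eqb_step R (eqb_step R (eqb_step R (eqb_step R (eqb_step R (eqb_zero R [5] [3, 4, 4, 4, 4, 4, 4, 4, 4, 4, 3, 4, 3, 3, 4]) c67) c68) c69) c70) c71) c72) c73)) (by decide) (defsOK_cons (eq_of_bits R (eqb_step R (eqb_step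 R (eqb_step R (eqb_step R (eqb_step R (eqb_step R (eqb_step R (eqb_step R (eqb_step R (eqb_step R (eqb_zero R [6] [3, 4, 3, 4, 4, 4, 3, 4, 4, 3, 3, 4, 4, 3, 3, 4, 3, 4, 3, 4, 4, 3, 4, 3, 4, 3, 4]) c57) c58) c59) c60) c61) c62) c63) c64) c65) c66)) (by decide) (defsOK_cons (eq_of_bits R (eqb_step R (eqb_step R (eqb_step R (eqb_step R (eqb_step R (eqb_step R (eqb_step R (eqb_step R (eqb_step R (eqb_step R (eqb_zero R [7] [6, 6, 5, 5, 6, 5, 5, 6, 5, 5, 5, 6, 6, 5, 6, 6]) c47) c48) c49) c50) c51) c52) c53) c54) c55) c56)) (by decide) (defsOK_cons (eq_of_bits R (eqb_step R (eqb_step R (eqb_step R (eqb_step R (eqb_step R (eqb_step R (eqb_step R (eqb_step R (eqb_step R (eqb_step R (eqb_zero R [8] [6, 5, 6, 6, 6, 6, 5, 5, 5, 6, 5, 5, 6, 6, 6, 5]) c37) c38) c39) c40) c41) c42) c43) c44) c45) c46)) (by decide) (defsOK_cons (eq_of_bits R (eqb_step R (eqb_step R (eqb_step R (eqb_step R (eqb_step R (eqb_step R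 (eqb_step R (eqb_step R (eqb_step R (eqb_step R (eqb_zero R [9] [7, 7, 8, 8, 7, 8, 7, 7, 8, 8, 8, 7, 7, 8, 8, 7, 8, 7, 7, 8, 7, 7, 8, 8, 8, 7, 8]) c27) c28) c29) c30) c31) c32) c33) c34) c35) c36)) (by decide) (defsOK_cons (eq_of_bits R (eqb_step R (eqb_step R (eqb_step R (eqb_step R (eqb_step R (eqb_step R (eqb_step R (eqb_step R (eqb_step R (eqb_step R (eqb_zero R [10] [7, 8, 7, 8, 7, 8, 7, 7, 8, 8, 7, 8, 8, 8, 8, 7, 8, 8, 8, 7, 7, 7, 8, 8, 7, 7, 8, 7, 7]) c17) c18) c19) c20) c21) c22) c23) c24) c25) c26)) (by decide) (defsOK_cons (eq_of_bits R (eqb_step R (eqb_step R (eqb_step R (eqb_step R (eqb_step R (eqb_step R (eqb_step R (eqb_step R (eqb_step R (eqb_step R (eqb_zero R [11] [8, 7, 8, 7, 7, 8, 7, 7, 8, 8, 8, 7, 7, 8, 8, 7, 8, 7, 8, 7, 7, 7, 7, 8, 8, 8, 7]) c7) c8) c9) c10) c11) c12) c13) c14) c15) c16)) (by decide) (defsOK_cons (eq_of_bits R (eqb_step R (eqb_step R (eqb_step R (eqb_step R (eqb_step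 R (eqb_step R (eqb_step R (eqb_zero R [12] [2, 1, 2, 1, 2, 1, 0, 2, 0, 2, 0]) c0) c1) c2) c3) c4) c5) c6)) (by decide) (defsOK_nil _ _)))))))))))
variable {G : Type} [Group G] (P : Pres G 12 MFi24.B)
noncomputable def m0 : Model (commutator G) := (MFi24.m P).subm (commutator G) (lg := nat_lit 19) (N := nat_lit 524288) (l := MFi24.nl) (MFi24.mR P) 12
  (fun x => by simpa using (MFi24.sgn P).2 [12 + x] |>.2 (by simp)) nl0 rfl nl0_ok
noncomputable def m : Model (commutator G) := (m0 P).ext (lg := nat_lit 19) (N := nat_lit 524288) (l := nl0) (hN := by decide +kernel) (h := nl0_ok) rfl nl nl_ok 3 rfl defs defs_ok (by decide +kernel)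
include P
theorem mR : (m P).R = R := rfl
theorem fin : Finite (commutator G) := haveI := MFi24.fin P; inferInstance
theorem upper : Nat.card (commutator G) ≤ 1255205709190661721292800 := by
  have h := (commutator G).card_mul_index
  have h2 := (MFi24.upper P).2
  rw [(MFi24.sgn P).1] at h
  omega
theorem ch_ok : (m P).ChainOK ch [] :=
  haveI := fin P
  ((m P).chain_cons [2, 0, 1, 2, 0, 1, 2, 0, 1, 2, 0, 1, 2, 0, 1, 2, 0, 1, 2, 0, 1, 2, 0, 1, 2, 0, 1, 2, 0, 1, 2, 0, 1, 0] (Model.via _ (mR P) (fun R => Model.fixP R [] [[0], [1], [2]]) c96) (Model.via _ (mR P) (fun R => Model.growP R [[0], [1], [2]] [2, 0, 1, 2, 0, 1, 2, 0, 1, 2, 0, 1, 2, 0, 1, 2, 0, 1, 2, 0, 1, 2, 0, 1, 2, 0, 1, 2, 0, 1, 2, 0, 1, 0] 0 306936) c97) ((m P).chain_cons [0, 1, 0, 1, 0, 1, 0, 1, 0, 1, 0, 1, 0, 1, 0, 1, 0, 1, 0, 1, 0, 1, 0, 1, 0, 1, 0, 1, 0, 1, 0, 0] (Model.via _ (mR P) (fun R => Model.fixP R [0] [[3], [4]]) c94) (Model.via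 _ (mR P) (fun R => Model.growP R [[3], [4]] [0, 1, 0, 1, 0, 1, 0, 1, 0, 1, 0, 1, 0, 1, 0, 1, 0, 1, 0, 1, 0, 1, 0, 1, 0, 1, 0, 1, 0, 1, 0, 0] 1 275264) c95) ((m P).chain_cons [0, 1, 0, 1, 0, 1, 0, 1, 0, 1, 0, 1, 0, 1, 0, 1, 0, 1, 0, 1, 0, 1, 0, 1, 0, 1, 0, 1, 0, 0] (Model.via _ (mR P) (fun R => Model.fixP R [1, 0] [[5], [6]]) c92) (Model.via _ (mR P) (fun R => Model.growP R [[5], [6]] [0, 1, 0, 1, 0, 1, 0, 1, 0, 1, 0, 1, 0, 1, 0, 1, 0, 1, 0, 1, 0, 1, 0, 1, 0, 1, 0, 1, 0, 0] 56865 218400) c93) ((m P).chain_cons [0, 1, 0, 1, 0, 1, 0, 1, 0, 1, 0, 1, 0, 1, 0, 1, 0, 1, 0, 1, 0, 1, 0, 1, 0, 1, 0, 1] (Model.via _ (mR P) (fun R => Model.fixP R [56865, 1, 0] [[7], [8]]) c90) (Model.via _ (mR P) (fun R => Model.growP R [[7], [8]] [0, 1, 0, 1, 0, 1, 0, 1, 0, 1, 0, 1, 0, 1, 0, 1, 0, 1, 0, 1, 0, 1, 0, 1, 0, 1, 0, 1] 181953 93312) c91) ((m P).chain_cons [0, 1, 2, 0, 1, 2, 0, 1, 2, 0, 1, 2, 0, 0] (Model.via _ (mR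 P) (fun R => Model.fixP R [181953, 56865, 1, 0] [[9], [10], [11]]) c88) (Model.via _ (mR P) (fun R => Model.growP R [[9], [10], [11]] [0, 1, 2, 0, 1, 2, 0, 1, 2, 0, 1, 2, 0, 0] 15096 729) c89) ((m P).chain_nil _))))))
theorem card : Nat.card (commutator G) = 1255205709190661721292800 := haveI := fin P; (m P).chain_done (ch_ok P) (upper P) (by decide +kernel)
theorem base : (m P).pst [15096, 181953, 56865, 1, 0] = ⊥ := haveI := fin P; (m P).chain_bot (ch_ok P) ((card P).trans (by decide +kernel))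
theorem inj : Function.Injective (m P).φ := (m P).inj_of_base (base P)
theorem top : gen (m P).g (lets 3) = ⊤ :=
  haveI := fin P
  top_of_marks ((m P).defsOK_g (inj P) ((mR P).symm ▸ defs_ok)) [0, 1, 2] ((m P).chain_top (ch_ok P) ((card P).trans (by decide +kernel))) (by decide +kernel)
theorem hi : ∀ x < 3, (m P).g x * (m P).g (inv x) = 1 := inv_of_invChk (B := iR) (all_take_done (all_take_step (all_take_zero _ iR) ((m P).ev_one_of_base (base P) (Model.via _ (mR P) (fun R => Model.fixW R [15096, 181953, 56865, 1, 0] ((iR.drop 0).take 3)) c98))) (by decide +kernel)) (by decide +kernel)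
theorem cardG : Nat.card G = 2 * 1255205709190661721292800 := by
  have h := (commutator G).card_mul_index
  rw [(MFi24.sgn P).1, card P] at h
  omega
theorem trans : (m P).orb ⊤ 0 = Set.Ico 0 (0 + 306936) :=
  (m P).orb_eq_ico' ((m P).inOrb_mono le_top ((m P).inOrb_grow [2, 0, 1, 2, 0, 1, 2, 0, 1, 2, 0, 1, 2, 0, 1, 2, 0, 1, 2, 0, 1, 2, 0, 1, 2, 0, 1, 2, 0, 1, 2, 0, 1, 0] ((m P).inOrb_self _ 0) (Model.via _ (mR P) (fun R => Model.growW R [[0], [1], [2]] [2, 0, 1, 2, 0, 1, 2, 0, 1, 2, 0, 1, 2, 0, 1, 2, 0, 1, 2, 0, 1, 2, 0, 1, 2, 0, 1, 2, 0, 1, 2, 0, 1, 0] (Nat.pow 2 0) (ival 0 306936)) c99))) (top P).ge (Model.via _ (mR P) (fun R => Model.invW R [[0], [1], [2]] 0 306936) c100) (by decide)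
theorem sub1 : (m P).InOrb (gen (m P).g [[3], [4]]) 37911 (ival 1 275264) := ((m P).inOrb_grow [1, 0, 1, 0, 1, 0, 1, 0, 1, 0, 1, 0, 1, 0, 1, 0, 1, 0, 1, 0, 1, 0, 1, 0, 1, 0, 1, 0, 1, 0, 1, 1] ((m P).inOrb_self _ 37911) (Model.via _ (mR P) (fun R => Model.growW R [[3], [4]] [1, 0, 1, 0, 1, 0, 1, 0, 1, 0, 1, 0, 1, 0, 1, 0, 1, 0, 1, 0, 1, 0, 1, 0, 1, 0, 1, 0, 1, 0, 1, 1] (Nat.pow 2 37911) (ival 1 275264)) c102))
theorem sub275265 : (m P).InOrb (gen (m P).g [[3], [4]]) 275265 (ival 275265 31671) := ((m P).inOrb_grow [0, 1, 0, 1, 0, 1, 0, 1, 0, 1, 0, 1, 0, 1, 0, 1, 0, 1, 0, 1, 0, 1, 0, 1, 0, 1, 0, 0] ((m P).inOrb_self _ 275265) (Model.via _ (mR P) (fun R => Model.growW R [[3], [4]] [0, 1, 0, 1, 0, 1, 0, 1, 0, 1, 0, 1, 0, 1, 0, 1, 0, 1, 0, 1, 0, 1, 0, 1, 0, 1, 0, 0] (Nat.pow 2 275265) (ival 275265 31671)) c105))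
theorem coatom : IsCoatom ((m P).pst [0]) := (m P).coatom (trans P) (by decide) ((m P).maxUpTo_step ((m P).maxUpTo_step ((m P).maxUpTo_one 306936) (Model.via _ (mR P) (fun R => Model.fixW R [0] [[3], [4]]) c101) (sub1 P) (Model.via _ (mR P) (fun R => Nat.ble (1 + 275264) R.N) (by decide +kernel)) (Model.via _ (mR P) (fun R => Nat.ble (0 + 306936) R.N) (by decide +kernel)) (Model.via _ (mR P) (fun R => mapsW R [2, 1, 2] (Nat.pow 2 0) (Nat.pow 2 37911)) c103) ((m P).inOrb_grow [0, 2, 0, 1, 2, 0, 1, 2, 1, 2, 0, 2, 1, 2, 0, 2, 1, 2, 0, 2, 1, 2, 0, 2, 1, 2, 0, 2, 1, 0] ((m P).inOrb_self _ 0) (Model.via _ (mR P) (fun R => Model.growW R [[2, 1, 2], [3], [4]] [0, 2, 0, 1, 2, 0, 1, 2, 1, 2, 0, 2, 1, 2, 0, 2, 1, 2, 0, 2, 1, 2, 0, 2, 1, 2, 0, 2, 1, 0] (Nat.pow 2 0) (ival 0 306936)) c104))) (Model.via _ (mR P) (fun R => Model.fixW R [0] [[3], [4]]) c101) (sub275265 P) (Model.via _ (mR P) (fun R => Nat.ble (275265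 + 31671) R.N) (by decide +kernel)) (Model.via _ (mR P) (fun R => Nat.ble (0 + 306936) R.N) (by decide +kernel)) (Model.via _ (mR P) (fun R => mapsW R [2] (Nat.pow 2 0) (Nat.pow 2 275265)) c106) ((m P).inOrb_grow [0, 1, 2, 1, 2, 0, 1, 2, 0, 1, 2, 0, 1, 2, 0, 1, 2, 0, 1, 2, 0, 1, 2, 0, 1, 2, 1, 0, 1] ((m P).inOrb_self _ 0) (Model.via _ (mR P) (fun R => Model.growW R [[2], [3], [4]] [0, 1, 2, 1, 2, 0, 1, 2, 0, 1, 2, 0, 1, 2, 0, 1, 2, 0, 1, 2, 0, 1, 2, 0, 1, 2, 1, 0, 1] (Nat.pow 2 0) (ival 0 306936)) c107)))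
theorem ng : ∀ N : Subgroup (commutator G), N.Normal → ev (m P).g [12] ∈ N → N = ⊤ :=
  ng_top (hi P) ngSt [12] (by decide) (all_take_done (all_take_step (all_take_step (all_take_step (all_take_step (all_take_step (all_take_step (all_take_zero _ ngR) ((m P).one_of_fix (base P) ((m P).fix_cons ((m P).fix_of_fixW (Model.via _ (mR P) (fun R => Model.fixW R [15096] ((ngR.drop 0).take 1)) c112)) ((m P).fix_cons ((m P).fix_of_fixW (Model.via _ (mR P) (fun R => Model.fixW R [181953] ((ngR.drop 0).take 1)) c111)) ((m P).fix_cons ((m P).fix_of_fixW (Model.via _ (mR P) (fun R => Model.fixW R [56865] ((ngR.drop 0).take 1)) c110)) ((m P).fix_cons ((m P).fix_of_fixW (Model.via _ (mR P) (fun R => Model.fixW R [1] ((ngR.drop 0).take 1)) c109)) ((m P).fix_cons ((m P).fix_of_fixW (Model.via _ (mR P) (fun R => Model.fixW R [0] ((ngR.drop 0).take 1)) c108)) ((m P).fix_nil ((ngR.drop 0).take 1))))))))) ((m P).ev_one_of_base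 (base P) (Model.via _ (mR P) (fun R => Model.fixW R [15096, 181953, 56865, 1, 0] ((ngR.drop 1).take 1)) c113))) ((m P).one_of_fix (base P) ((m P).fix_cons ((m P).fix_of_fixW (Model.via _ (mR P) (fun R => Model.fixW R [15096] ((ngR.drop 2).take 1)) c118)) ((m P).fix_cons ((m P).fix_of_fixW (Model.via _ (mR P) (fun R => Model.fixW R [181953] ((ngR.drop 2).take 1)) c117)) ((m P).fix_cons ((m P).fix_of_fixW (Model.via _ (mR P) (fun R => Model.fixW R [56865] ((ngR.drop 2).take 1)) c116)) ((m P).fix_cons ((m P).fix_of_fixW (Model.via _ (mR P) (fun R => Model.fixW R [1] ((ngR.drop 2).take 1)) c115)) ((m P).fix_cons ((m P).fix_of_fixW (Model.via _ (mR P) (fun R => Model.fixW R [0] ((ngR.drop 2).take 1)) c114)) ((m P).fix_nil ((ngR.drop 2).take 1))))))))) ((m P).ev_one_of_base (base P) (Model.via _ (mR P) (fun R => Model.fixW R [15096, 181953, 56865, 1, 0] ((ngR.drop 3).take 1)) c119))) ((m P).one_of_fix (base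 P) ((m P).fix_cons ((m P).fix_of_fixW (Model.via _ (mR P) (fun R => Model.fixW R [15096] ((ngR.drop 4).take 1)) c124)) ((m P).fix_cons ((m P).fix_of_fixW (Model.via _ (mR P) (fun R => Model.fixW R [181953] ((ngR.drop 4).take 1)) c123)) ((m P).fix_cons ((m P).fix_of_fixW (Model.via _ (mR P) (fun R => Model.fixW R [56865] ((ngR.drop 4).take 1)) c122)) ((m P).fix_cons ((m P).fix_of_fixW (Model.via _ (mR P) (fun R => Model.fixW R [1] ((ngR.drop 4).take 1)) c121)) ((m P).fix_cons ((m P).fix_of_fixW (Model.via _ (mR P) (fun R => Model.fixW R [0] ((ngR.drop 4).take 1)) c120)) ((m P).fix_nil ((ngR.drop 4).take 1))))))))) ((m P).ev_one_of_base (base P) (Model.via _ (mR P) (fun R => Model.fixW R [15096, 181953, 56865, 1, 0] ((ngR.drop 5).take 1)) c125))) (by decide +kernel)) (top P) (by decide)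
theorem card_stab : Nat.card ((m P).pst [0]) = 4089470473293004800 := (m P).card_stab (trans P) (by rw [card P]) (by decide)
theorem simple : IsSimpleGroup (commutator G) :=
  haveI := fin P
  simple_of_coatom _ (coatom P) (fun N hN h => (m P).normal_le_stab (trans P) (base P) (by decide) N h)
    (ev (m P).g [12]) 29 (by rw [← ev_wpow]; exact (all_take_done (all_take_step (all_take_zero _ xR) ((m P).one_of_fix (base P) ((m P).fix_cons ((m P).fix_of_fixW (Model.via _ (mR P) (fun R => Model.fixW R [15096] ((xR.drop 0).take 1)) c130)) ((m P).fix_cons ((m P).fix_of_fixW (Model.via _ (mR P) (fun R => Model.fixW R [181953] ((xR.drop 0).take 1)) c129)) ((m P).fix_cons ((m P).fix_of_fixW (Model.via _ (mR P) (fun R => Model.fixW R [56865] ((xR.drop 0).take 1)) c128)) ((m P).fix_cons ((m P).fix_of_fixW (Model.via _ (mR P) (fun R => Model.fixW R [1] ((xR.drop 0).take 1)) c127)) ((m P).fix_cons ((m P).fix_of_fixW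 (Model.via _ (mR P) (fun R => Model.fixW R [0] ((xR.drop 0).take 1)) c126)) ((m P).fix_nil ((xR.drop 0).take 1))))))))) (by decide +kernel)) _ (List.mem_singleton_self _))
    (by rw [card_stab P]; decide +kernel) (ng P)
end H0.MFi24d
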